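import Groth.Agent.Lib.EtMod.Alg
import Mathlib.RingTheory.Smooth.IntegralClosure

/-!
# Integral closures and smooth base change
-/

universe u w

open TensorProduct

namespace Groth.Agent.H8.IntClo.Alg

section BaseChange

variable {R B : Type u} [CommRing R] [CommRing B] [Algebra R B] [Algebra.Smooth R B]
  {A A' : Type w} [CommRing A] [Algebra R A] [CommRing A'] [Algebra R A'] [Algebra B A']
  [IsScalarTower R B A'] (ρ : A →ₐ[R] A')

/-- The base change comparison, as an algebra isomorphism. -/
noncomputable def compEquiv (h : IsBaseChange B ρ.toLinearMap) : B ⊗[R] A ≃ₐ[B] A' :=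
  AlgEquiv.ofBijective (Algebra.TensorProduct.lift (Algebra.ofId B A') ρ fun _ _ => Commute.all _ _) (by
    have e : ∀ z, Algebra.TensorProduct.lift (Algebra.ofId B A') ρ (fun _ _ => Commute.all _ _) z = h.equiv z :=
      fun z => by
        induction z using TensorProduct.induction_on with
        | zero => rw [map_zero, map_zero]
        | tmul b a =>
          rw [IsBaseChange.equiv_tmul, Algebra.TensorProduct.lift_tmul, Algebra.smul_def]
          rfl
        | add x y hx hy => rw [map_add, map_add, hx, hy]
    rw [show ⇑(Algebra.TensorProduct.lift (Algebra.ofId B A') ρ fun _ _ => Commute.all _ _) = h.equiv from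
      funext e]
    exact h.equiv.bijective)

theorem compEquiv_tmul (h : IsBaseChange B ρ.toLinearMap) (b : B) (a : A) :
    compEquiv ρ h (b ⊗ₜ a) = b • ρ a := by
  rw [compEquiv, AlgEquiv.ofBijective_apply, Algebra.TensorProduct.lift_tmul, Algebra.smul_def]
  rfl

/-- The map on integral elements. -/
noncomputable def mapClosure : integralClosure R A →ₗ[R] integralClosure B A' where
  toFun y := ⟨ρ y.1, (y.2.map ρ).tower_top⟩
  map_add' x y := Subtype.ext (map_add ρ x.1 y.1)
  map_smul' r x := Subtype.ext (map_smul ρ r x.1)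

/-- The base change of the integral closure is the integral closure. -/
theorem isBaseChange_mapClosure (h : IsBaseChange B ρ.toLinearMap) : IsBaseChange B (mapClosure (B := B) ρ) := by
  let e : B ⊗[R] integralClosure R A ≃ₗ[B] integralClosure B A' :=
    (AlgEquiv.ofBijective _ (TensorProduct.toIntegralClosure_bijective_of_smooth (R := R) (S := B) (B := A))
      |>.trans (compEquiv ρ h).mapIntegralClosure).toLinearEquiv
  refine IsBaseChange.of_equiv e fun y => Subtype.ext ?_
  change compEquiv ρ h ((1 : B) ⊗ₜ y.1) = ρ y.1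
  rw [compEquiv_tmul, one_smul]

end BaseChange

variable {R : Type u} [CommRing R] {κ : Type} [Finite κ] (Bk : κ → Type u) [∀ k, CommRing (Bk k)]
  [∀ k, Algebra R (Bk k)] [∀ k, Algebra.Smooth R (Bk k)] {A : Type w} [CommRing A] [Algebra R A]

/-- Integrality descends along a smooth covering family. -/
theorem isIntegral_of_family (hB : Lib.EtMod.Alg.IsFFFamily (A := R) Bk) (A' : κ → Type w)
    [∀ k, CommRing (A' k)] [∀ k, Algebra R (A' k)] [∀ k, Algebra (Bk k) (A' k)]
    [∀ k, IsScalarTower R (Bk k) (A' k)] (ρ : ∀ k, A →ₐ[R] A' k)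
    (h : ∀ k, IsBaseChange (Bk k) (ρ k).toLinearMap) {x : A}
    (hx : ∀ k, IsIntegral (Bk k) (ρ k x)) : IsIntegral R x := by
  let N : Submodule R A := (integralClosure R A).toSubmodule
  have hz : N.mkQ x = 0 := hB.eq_zero fun k => by
    have h1 : IsIntegral (Bk k) ((1 : Bk k) ⊗ₜ[R] x) := by
      have h2 := (hx k).map (compEquiv (ρ k) (h k)).symm
      rwa [show ρ k x = compEquiv (ρ k) (h k) ((1 : Bk k) ⊗ₜ x) by rw [compEquiv_tmul, one_smul],
        AlgEquiv.symm_apply_apply] at h2
    obtain ⟨z, hz⟩ := (TensorProduct.toIntegralClosure_bijective_of_smooth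
      (R := R) (S := Bk k) (B := A)).2 ⟨_, h1⟩
    have hz' : Algebra.TensorProduct.map (AlgHom.id (Bk k) (Bk k)) (integralClosure R A).val z =
      (1 : Bk k) ⊗ₜ x := congrArg Subtype.val hz
    have h3 : ∀ w, N.mkQ.lTensor (Bk k)
        (Algebra.TensorProduct.map (AlgHom.id (Bk k) (Bk k)) (integralClosure R A).val w) = 0 := fun w => by
      induction w using TensorProduct.induction_on with
      | zero => rw [map_zero, map_zero]
      | tmul b y =>
        rw [Algebra.TensorProduct.map_tmul, LinearMap.lTensor_tmul]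
        rw [show N.mkQ ((integralClosure R A).val y) = 0 from
          (Submodule.Quotient.mk_eq_zero N).2 y.2, tmul_zero]
      | add a b ha hb => rw [map_add, map_add, ha, hb, add_zero]
    have h4 := h3 z
    rw [hz', LinearMap.lTensor_tmul] at h4
    exact h4
  exact (Submodule.Quotient.mk_eq_zero N).1 hz



/-- Base change along linear equivalences. -/
theorem isBaseChange_congr {R B : Type u} [CommRing R] [CommRing B] [Algebra R B] {M N M' N' : Type w}
    [AddCommGroup M] [Module R M] [AddCommGroup N] [Module R N] [Module B N] [IsScalarTower R B N]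
    [AddCommGroup M'] [Module R M'] [AddCommGroup N'] [Module R N'] [Module B N'] [IsScalarTower R B N']
    {f : M →ₗ[R] N} (h : IsBaseChange B f) (eE : M ≃ₗ[R] M') (eV : N ≃ₗ[B] N') (f' : M' →ₗ[R] N')
    (hf : ∀ y, f' (eE y) = eV (f y)) : IsBaseChange B f' := by
  refine IsBaseChange.of_equiv ((eE.symm.baseChange R B M' M).trans (h.equiv.trans eV)) fun y => ?_
  rw [LinearEquiv.trans_apply, LinearEquiv.trans_apply, LinearEquiv.baseChange_tmul, h.equiv_tmul,
    one_smul, ← hf, LinearEquiv.apply_symm_apply]

end Groth.Agent.H8.IntClo.Alg
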