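import Groth.Agent.H8.IntClo.Alg
import Groth.Agent.Lib.EtMod.WeakAss
import Groth.Agent.Lib.EtMod.Present
import Groth.Agent.Lib.EtMod.QCoh
import Mathlib.CategoryTheory.Sites.Whiskering

/-!
# The integral closure of the structure sheaf in a quasi-coherent algebra
-/

universe u

set_option backward.isDefEq.respectTransparency false
set_option backward.isDefEq.respectTransparency.types false
set_option linter.style.haveILetI false

open CategoryTheory CategoryTheory.Limits AlgebraicGeometry Opposite AlgSp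

namespace Groth.Agent.H8.IntClo

open Lib.EtMod

variable {S : Scheme.{u}} {X : Sp S}

/-- A sheaf of algebras as a module. -/
noncomputable abbrev toMod (B : EtSh X CommRingCat.{u + 1}) (ψ : OEt X ⟶ B) : ModEt X :=
  (SheafOfModules.restrictScalars
      ((sheafCompose (etTop X) (forget₂ CommRingCat.{u + 1} RingCat.{u + 1})).map ψ)).obj
    (SheafOfModules.unit ((sheafCompose (etTop X) (forget₂ CommRingCat.{u + 1} RingCat.{u + 1})).obj B))

variable (A : EtSh X CommRingCat.{u + 1}) (φ : OEt X ⟶ A)

/-- The structure map on sections. -/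
noncomputable def str (E : EtOver X) : fn E →+* A.obj.obj (op E) :=
  (φ.hom.app (op E)).hom.comp (ULift.ringEquiv.symm.toRingHom : fn E →+* (OEt X).obj.obj (op E))

theorem str_res {E V : EtOver X} (g : V ⟶ E) (a : fn E) :
    A.obj.map g.op (str A φ E a) = str A φ V (fnMap g a) :=
  (ConcreteCategory.congr_hom (φ.hom.naturality g.op) (ULift.up a)).symm

theorem isIntegralElem_iff {E : EtOver X} (x : A.obj.obj (op E)) :
    (φ.hom.app (op E)).hom.IsIntegralElem x ↔ (str A φ E).IsIntegralElem x := by
  let e : (OEt X).obj.obj (op E) ≃+* fn E := ULift.ringEquiv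
  constructor
  · rintro ⟨p, hp, hp0⟩
    refine ⟨p.map e.toRingHom, hp.map _, ?_⟩
    rw [Polynomial.eval₂_map]
    exact hp0
  · rintro ⟨p, hp, hp0⟩
    refine ⟨p.map e.symm.toRingHom, hp.map _, ?_⟩
    rw [Polynomial.eval₂_map]
    exact hp0

theorem isIntegralElem_res {E V : EtOver X} (g : V ⟶ E) {x : A.obj.obj (op E)}
    (hx : (str A φ E).IsIntegralElem x) : (str A φ V).IsIntegralElem (A.obj.map g.op x) := by
  obtain ⟨p, hp, hp0⟩ := hx
  refine ⟨p.map (fnMap g), hp.map _, ?_⟩
  rw [Polynomial.eval₂_map, show (str A φ V).comp (fnMap g) = (A.obj.map g.op).hom.comp (str A φ E) from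
    RingHom.ext fun a => (str_res A φ g a).symm]
  exact (Polynomial.hom_eval₂ _ _ _ _).symm.trans
    ((congrArg (A.obj.map g.op).hom hp0).trans (map_zero _))

section Affine

variable (hM : IsCart (toMod A φ))

include hM in
/-- On affine objects integrality is local. -/
theorem isIntegralElem_of_affCover {E : EtOver X} [IsAffine E.obj.left.left] (C : AffCover E)
    {x : A.obj.obj (op E)} (hx : ∀ k, (str A φ (C.V k)).IsIntegralElem (A.obj.map (C.g k).op x)) :
    (str A φ E).IsIntegralElem x := by
  letI : Algebra (fn E) (A.obj.obj (op E)) := (str A φ E).toAlgebra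
  letI : ∀ k, Algebra (fn E) (fn (C.V k)) := fun k => (fnMap (C.g k)).toAlgebra
  letI : ∀ k, Algebra (fn E) (A.obj.obj (op (C.V k))) := fun k =>
    ((str A φ (C.V k)).comp (fnMap (C.g k))).toAlgebra
  letI : ∀ k, Algebra (fn (C.V k)) (A.obj.obj (op (C.V k))) := fun k => (str A φ (C.V k)).toAlgebra
  haveI : ∀ k, IsScalarTower (fn E) (fn (C.V k)) (A.obj.obj (op (C.V k))) := fun k =>
    IsScalarTower.of_algebraMap_eq fun _ => rfl
  haveI : ∀ k, Algebra.Smooth (fn E) (fn (C.V k)) := fun k =>
    haveI : Algebra.Etale (fn E) (fn (C.V k)) := etale_fnMap (C.g k)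
    inferInstance
  let ρ : ∀ k, A.obj.obj (op E) →ₐ[fn E] A.obj.obj (op (C.V k)) := fun k =>
    { (A.obj.map (C.g k).op).hom with commutes' := fun a => str_res A φ (C.g k) a }
  exact Alg.isIntegral_of_family (fun k => (fn (C.V k) : Type u))
    ⟨fun k => flat_fnMap (C.g k), C.covers⟩ (fun k => A.obj.obj (op (C.V k))) ρ
    (fun k => hM (C.g k)) hx

end Affine

/-- The sections integral on all affine objects. -/
noncomputable def goodSub (E : EtOver X) : Subring (A.obj.obj (op E)) where
  carrier := {x | ∀ ⦃V : EtOver X⦄ (g : V ⟶ E), IsAffine V.obj.left.left →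
    (str A φ V).IsIntegralElem (A.obj.map g.op x)}
  zero_mem' V g _ := by rw [map_zero]; exact (str A φ V).isIntegralElem_zero
  one_mem' V g _ := by rw [map_one]; exact (str A φ V).isIntegralElem_one
  add_mem' hx hy V g h := by rw [map_add]; exact (hx g h).add _ (hy g h)
  neg_mem' hx V g h := by rw [map_neg]; exact (hx g h).neg _
  mul_mem' hx hy V g h := by rw [map_mul]; exact (hx g h).mul _ (hy g h)

theorem mem_goodSub_res {E V : EtOver X} (g : V ⟶ E) {x : A.obj.obj (op E)} (hx : x ∈ goodSub A φ E) :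
    A.obj.map g.op x ∈ goodSub A φ V := fun W h hW => by
  rw [← ConcreteCategory.comp_apply, ← Functor.map_comp, ← op_comp]
  exact hx (h ≫ g) hW

theorem str_mem {E : EtOver X} (r : (OEt X).obj.obj (op E)) : φ.hom.app (op E) r ∈ goodSub A φ E := by
  intro V g _
  rw [show A.obj.map g.op (φ.hom.app (op E) r) = str A φ V (fnMap g r.down) from str_res A φ g r.down]
  exact (str A φ V).isIntegralElem_map

theorem mem_goodSub_iff {E : EtOver X} [IsAffine E.obj.left.left] (x : A.obj.obj (op E)) :
    x ∈ goodSub A φ E ↔ (str A φ E).IsIntegralElem x := by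
  refine ⟨fun h => ?_, fun h V g _ => isIntegralElem_res A φ g h⟩
  have := h (𝟙 E) ‹_›
  rwa [op_id, CategoryTheory.Functor.map_id, ConcreteCategory.id_apply] at this

/-- The subpresheaf of rings. -/
noncomputable def subPsh : (EtOver X)ᵒᵖ ⥤ CommRingCat.{u + 1} where
  obj E := CommRingCat.of (goodSub A φ E.unop)
  map {E V} g := CommRingCat.ofHom
    (((A.obj.map g).hom.comp (goodSub A φ E.unop).subtype).codRestrict (goodSub A φ V.unop)
      fun x => mem_goodSub_res A φ g.unop x.2)
  map_id E := CommRingCat.hom_ext (RingHom.ext fun x =>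
    Subtype.ext (ConcreteCategory.congr_hom (A.obj.map_id E) x.1))
  map_comp g h := CommRingCat.hom_ext (RingHom.ext fun x =>
    Subtype.ext (ConcreteCategory.congr_hom (A.obj.map_comp g h) x.1))

variable (hM : IsCart (toMod A φ))

include hM in
theorem isSheaf_subPsh : Presheaf.IsSheaf (etTop X) (subPsh A φ) := by
  rw [Presheaf.isSheaf_iff_isSheaf_forget (etTop X) _ (CategoryTheory.forget CommRingCat.{u + 1}),
    isSheaf_iff_isSheaf_of_type]
  intro T R hR x hx
  have hA : Presieve.IsSheaf (etTop X) (A.obj ⋙ CategoryTheory.forget CommRingCat.{u + 1}) :=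
    (isSheaf_iff_isSheaf_of_type _ _).1
      ((Presheaf.isSheaf_iff_isSheaf_forget (etTop X) A.obj (CategoryTheory.forget _)).1 A.property)
  let xA : Presieve.FamilyOfElements (A.obj ⋙ CategoryTheory.forget CommRingCat.{u + 1}) R.arrows :=
    fun V g hg => (x g hg).1
  obtain ⟨t, ht, huniq⟩ := hA R hR xA fun V₁ V₂ W g₁ g₂ f₁ f₂ h₁ h₂ w =>
    congrArg Subtype.val (hx g₁ g₂ h₁ h₂ w)
  refine ⟨⟨t, fun V g hV => ?_⟩, fun W g hg => Subtype.ext (ht g hg), fun y hy =>
    Subtype.ext (huniq y.1 fun W g hg => congrArg Subtype.val (hy g hg))⟩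
  haveI := hV
  obtain ⟨C, hC⟩ := exists_affCover ((etTop X).pullback_stable g hR)
  refine isIntegralElem_of_affCover A φ hM C fun k => ?_
  have h : A.obj.map (C.g k).op (A.obj.map g.op t) = (x (C.g k ≫ g) (hC k)).1 := by
    rw [← ConcreteCategory.comp_apply, ← Functor.map_comp, ← op_comp]
    exact ht _ (hC k)
  rw [h]
  exact (mem_goodSub_iff A φ _).1 (x (C.g k ≫ g) (hC k)).2

/-- The subsheaf of rings. -/
noncomputable def subSh : EtSh X CommRingCat.{u + 1} := ⟨subPsh A φ, isSheaf_subPsh A φ hM⟩

/-- The inclusion. -/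
noncomputable def incl : subSh A φ hM ⟶ A :=
  ⟨{ app := fun E => CommRingCat.ofHom (goodSub A φ E.unop).subtype
     naturality := fun _ _ _ => rfl }⟩

/-- The structure map. -/
noncomputable def strSub : OEt X ⟶ subSh A φ hM :=
  ⟨{ app := fun E => CommRingCat.ofHom
        ((φ.hom.app E).hom.codRestrict (goodSub A φ E.unop) fun r => str_mem A φ r)
     naturality := fun E V g => CommRingCat.hom_ext (RingHom.ext fun r =>
        Subtype.ext (ConcreteCategory.congr_hom (φ.hom.naturality g) r)) }⟩

theorem strSub_incl : strSub A φ hM ≫ incl A φ hM = φ := rfl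

/-- The algebra structure on sections. -/
@[reducible] noncomputable def algOn (E : EtOver X) : Algebra (fn E) (A.obj.obj (op E)) := (str A φ E).toAlgebra

/-- The sections of the subsheaf on affine objects. -/
noncomputable def closureEquiv (E : EtOver X) [IsAffine E.obj.left.left] :
    letI := algOn A φ E
    integralClosure (fn E) (A.obj.obj (op E)) ≃ₗ[fn E]
      sectModEt (toMod (subSh A φ hM) (strSub A φ hM)) E :=
  letI := algOn A φ E
  { toFun := fun y => (⟨y.1, (mem_goodSub_iff A φ y.1).2 y.2⟩ : goodSub A φ E)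
    map_add' := fun _ _ => rfl
    map_smul' := fun a y => Subtype.ext (Algebra.smul_def a y.1)
    invFun := fun z => ⟨(z : goodSub A φ E).1, (mem_goodSub_iff A φ _).1 (z : goodSub A φ E).2⟩
    left_inv := fun _ => rfl
    right_inv := fun _ => rfl }

/-- The integral closure is quasi-coherent. -/
theorem isCart_subSh : IsCart (toMod (subSh A φ hM) (strSub A φ hM)) := by
  intro E V _ _ g
  letI := algOn A φ E
  letI : Algebra (fn E) (fn V) := (fnMap g).toAlgebra
  letI : Algebra (fn E) (A.obj.obj (op V)) := ((str A φ V).comp (fnMap g)).toAlgebra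
  letI := algOn A φ V
  haveI : IsScalarTower (fn E) (fn V) (A.obj.obj (op V)) := IsScalarTower.of_algebraMap_eq fun _ => rfl
  haveI : Algebra.Etale (fn E) (fn V) := etale_fnMap g
  let ρ : A.obj.obj (op E) →ₐ[fn E] A.obj.obj (op V) :=
    { (A.obj.map g.op).hom with commutes' := fun a => str_res A φ g a }
  letI : Module (fn E) (sectModEt (toMod (subSh A φ hM) (strSub A φ hM)) V) :=
    Module.compHom _ (fnMap g)
  haveI : IsScalarTower (fn E) (fn V) (sectModEt (toMod (subSh A φ hM) (strSub A φ hM)) V) :=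
    IsScalarTower.of_algebraMap_smul fun _ _ => rfl
  exact Alg.isBaseChange_congr (Alg.isBaseChange_mapClosure ρ (hM g)) (closureEquiv A φ hM E)
    (closureEquiv A φ hM V) _ fun y => Subtype.ext rfl

end Groth.Agent.H8.IntClo
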